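import Cfsg.Agent.H829.S3828.RankTwo
import Cfsg.Agent.H162.CC.Tools3
import Cfsg.Agent.H69.OctTwF
import Cfsg.Agent.H806.RowCharTwo
import Cfsg.Agent.KFacts.TwF4.SylU
import Cfsg.Agent.KFacts.TwF4.CentR
import Cfsg.Agent.FixBN.Transport
import Cfsg.Agent.S1072

/-!
# The rows of `²F₄(q)` of S3828 (helper829, task 2640)

`crow_2F4 : Lie.Iso2F4 G → CRow p G` for all primes `p`.
-/

set_option autoImplicit false
set_option linter.unusedSectionVars false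

namespace Cfsg.Agent.H829.S3828

open Subgroup Cfsg Cfsg.Agent.Lib.Cores Cfsg.Agent.H162.CCR

section Gen

variable {G : Type*} [Group G]

theorem eq_one_of_pows {p q : ℕ} (hp : p.Prime) (hq : q.Prime) (hpq : p ≠ q) {x : G} {a b : ℕ} (h1 : x ^ p ^ a = 1)
    (h2 : x ^ q ^ b = 1) : x = 1 := by
  have h3 := Nat.dvd_gcd (orderOf_dvd_of_pow_eq_one h1) (orderOf_dvd_of_pow_eq_one h2)
  have h4 : Nat.gcd (p ^ a) (q ^ b) = 1 := Nat.Coprime.pow a b ((Nat.coprime_primes hp hq).2 hpq)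
  rw [h4, Nat.dvd_one, orderOf_eq_one_iff] at h3
  exact h3

/-- `O_p(H) = 1` if `H` normalises a `q`-group whose centraliser in `H` is a `q`-group -/
theorem pCore_eq_bot_of {p q : ℕ} [hp : Fact p.Prime] [hq : Fact q.Prime] [Finite G] (hpq : p ≠ q) {H D : Subgroup G}
    (hDH : D ≤ H) (hn : H ≤ Subgroup.normalizer (D : Set G)) (hD : IsPGroup q D)
    (hc : ∀ x ∈ H, (∀ d ∈ D, d * x = x * d) → ∃ k : ℕ, x ^ q ^ k = 1) : pCore p H = ⊥ := by
  rw [eq_bot_iff]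
  intro x hx
  have hpx : ∀ y : H, y ∈ pCore p H → ∃ j : ℕ, (y : G) ^ p ^ j = 1 := by
    intro y hy
    obtain ⟨j, hj⟩ := (pCore_isPGroup p) ⟨y, hy⟩
    exact ⟨j, congrArg (fun z => ((z : pCore p H) : H).val) hj⟩
  have hcx : ∀ d ∈ D, d * (x : G) = x * d := by
    intro d hd
    obtain ⟨d', hd'⟩ : ∃ d' : H, d' = ⟨d, hDH hd⟩ := ⟨_, rfl⟩
    have h1 : d' * x * d'⁻¹ * x⁻¹ ∈ pCore p H :=
      mul_mem ((inferInstance : (pCore p H).Normal).conj_mem x hx d') (inv_mem hx)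
    obtain ⟨j, hj⟩ := hpx _ h1
    have h2 : ((d' * x * d'⁻¹ * x⁻¹ : H) : G) ∈ D := by
      have h3 : (x : G) * d⁻¹ * (x : G)⁻¹ ∈ D := (Subgroup.mem_normalizer_iff.1 (hn x.2) d⁻¹).1 (inv_mem hd)
      have e : ((d' * x * d'⁻¹ * x⁻¹ : H) : G) = d * ((x : G) * d⁻¹ * (x : G)⁻¹) := by
        rw [hd']
        simp only [Subgroup.coe_mul, Subgroup.coe_inv]
        group
      rw [e]
      exact mul_mem hd h3
    obtain ⟨k, hk⟩ := hD ⟨_, h2⟩
    have hk' : ((d' * x * d'⁻¹ * x⁻¹ : H) : G) ^ q ^ k = 1 := congrArg Subtype.val hk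
    have h4 := eq_one_of_pows hp.1 hq.1 hpq hj hk'
    have e : ((d' * x * d'⁻¹ * x⁻¹ : H) : G) = d * (x : G) * d⁻¹ * (x : G)⁻¹ := by
      rw [hd']
      simp only [Subgroup.coe_mul, Subgroup.coe_inv]
    rw [e] at h4
    calc d * (x : G) = (d * (x : G) * d⁻¹ * (x : G)⁻¹) * (x * d) := by group
      _ = x * d := by rw [h4, one_mul]
  obtain ⟨j, hj⟩ := hpx x hx
  obtain ⟨k, hk⟩ := hc x x.2 hcx
  rw [Subgroup.mem_bot]
  exact Subtype.ext (eq_one_of_pows hp.1 hq.1 hpq hj hk)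

/-- a split (B, N)-pair whose unipotent subgroup is a given Sylow subgroup -/
theorem exists_pair_of [Finite G] {p : ℕ} [hp : Fact p.Prime] (P : Cfsg.BNPair G) {U : Subgroup G} {s t : G}
    (hs : FixBN.Split P p U) (hS : P.S = {s, t}) (V : Sylow p G) :
    ∃ (Q : Cfsg.BNPair G) (s t : G), FixBN.Split Q p (V : Subgroup G) ∧ Q.S = {s, t} := by
  have hN : ((P.B ⊓ P.N).subgroupOf P.N).Normal := Cfsg.Agent.Tits.OfBN.normal_subgroupOf P
  obtain ⟨x, hx⟩ := Cfsg.Agent.FixBN.OfBN.exists_fix hs (V : Subgroup G) V.2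
  induction x using QuotientGroup.induction_on with
  | H g =>
  have h1 : (V : Subgroup G) ≤ U.map (MulAut.conj g).toMonoidHom := by
    intro v hv
    have h2 : (QuotientGroup.mk (v * g) : G ⧸ P.B) = QuotientGroup.mk g := hx v hv
    rw [QuotientGroup.eq] at h2
    have h3 : g⁻¹ * v * g ∈ P.B := by
      have h4 := inv_mem h2
      have e : ((v * g)⁻¹ * g)⁻¹ = g⁻¹ * v * g := by group
      rwa [e] at h4
    obtain ⟨k, hk⟩ := V.2 ⟨v, hv⟩
    have hk' : v ^ p ^ k = 1 := congrArg Subtype.val hk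
    have h5 : (g⁻¹ * v * g) ^ p ^ k = 1 := by
      have e : g⁻¹ * v * g = g⁻¹ * v * g⁻¹⁻¹ := by group
      rw [e, conj_pow, hk', mul_one, mul_inv_cancel]
    refine ⟨g⁻¹ * v * g, hs.mem_of_pow h3 h5, ?_⟩
    simp [mul_assoc]
  have h2 : U.map (MulAut.conj g).toMonoidHom = (V : Subgroup G) := V.3 (hs.isP.map _) h1
  have h3 := FixBN.Transport.split (MulAut.conj g) P hs
  rw [h2] at h3
  refine ⟨_, MulAut.conj g s, MulAut.conj g t, h3, ?_⟩
  show (MulAut.conj g) '' P.S = _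
  rw [hS, Set.image_pair]

end Gen

section TwF4

open Cfsg.Agent.KFacts.TwF4 Cfsg.Agent.KFacts.TwF4.Arc Cfsg.Agent.KFacts.TwF4.Irr Cfsg.Agent.KFacts.TwF4.Inv
  Cfsg.Agent.SplitTwo.ZS Cfsg.Agent.H806.RowCharTwo

universe u

variable {F : Type*} [Field F] [Finite F] {σ : F →+* F} {G : Type u} [Group G] [Finite G] (S : Full σ G)

/-- the first maximal parabolic subgroup -/
def H1 : Subgroup G := Subgroup.normalizer (J S.XZ 1 7 : Set G)

/-- the second maximal parabolic subgroup -/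
def H2 : Subgroup G := Subgroup.normalizer (J S.XZ 2 8 : Set G)

/-- the Borel subgroup -/
def BB : Subgroup G := Subgroup.normalizer (J S.XZ 1 8 : Set G)

variable {S}

theorem isP (hR : S.R.p = 2) {a b : ℤ} (h1 : 1 ≤ a) (h2 : b ≤ 8) : IsPGroup 2 (J S.XZ a b) :=
  (isPGroup_J S.zsys8 (two_X S hR) 8 1 8 (by norm_num) (by norm_num)).to_le (J_mono h1 h2)

theorem T_norm {t : G} (ht : t ∈ S.T) (a b : ℤ) : t ∈ Subgroup.normalizer (J S.XZ a b : Set G) := by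
  obtain ⟨c, d, rfl⟩ := S.mem_T.1 ht
  exact h_norm S c d a b

theorem BB_le_H1 (hF : ∃ c : Fˣ, c ≠ 1) (hR : S.R.p = 2) : BB S ≤ H1 S := by
  intro g hg
  obtain ⟨b, hb, t, ht, rfl⟩ := SylU.norm_U S hF hR (Subgroup.mem_normalizer_iff.1 hg)
  exact mul_mem (norm_Q S (J_mono (by norm_num) le_rfl hb)) (T_norm ht 1 7)

theorem BB_le_H2 (hF : ∃ c : Fˣ, c ≠ 1) (hR : S.R.p = 2) : BB S ≤ H2 S := by
  intro g hg
  obtain ⟨b, hb, t, ht, rfl⟩ := SylU.norm_U S hF hR (Subgroup.mem_normalizer_iff.1 hg)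
  exact mul_mem (norm_R S (J_mono le_rfl (by norm_num) hb)) (T_norm ht 2 8)

theorem h_notMem (hF : ∃ c : Fˣ, c ≠ 1) (hR : S.R.p = 2) {c d : Fˣ} (h : S.h c d ∈ J S.XZ 1 8) : d = 1 := by
  obtain ⟨k, hk⟩ := isP (S := S) hR le_rfl le_rfl ⟨_, h⟩
  exact (SylU.torus_two S (k := k) (congrArg Subtype.val hk)).2

theorem X_le_of (hF : ∃ c : Fˣ, c ≠ 1) (hR : S.R.p = 2) {k : ℤ} (h : S.XZ k ≤ BB S) : S.XZ k ≤ J S.XZ 1 8 := by
  obtain ⟨P, hP⟩ := SylU.exists_sylow S hF hR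
  intro x hx
  obtain ⟨j, hj⟩ := two_X S hR k ⟨x, hx⟩
  have h1 := h hx
  unfold BB at h1
  rw [← hP] at h1
  rw [← hP]
  exact H747.mem_of_two_pow P h1 (k := j) (congrArg Subtype.val hj)

theorem H1_ne_BB (hF : ∃ c : Fˣ, c ≠ 1) (hR : S.R.p = 2) : H1 S ≠ BB S := by
  intro h
  have h0 : S.XZ 0 ≤ J S.XZ 1 8 := by
    apply X_le_of hF hR
    rw [← h]
    exact (X_le_J (by norm_num) (by norm_num)).trans (norm_Q S)
  have h8 : S.XZ 8 ≤ J S.XZ 1 8 := X_le_J (by norm_num) (by norm_num)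
  obtain ⟨d, hd⟩ := hF
  exact hd (h_notMem ⟨d, hd⟩ hR ((sup_le h0 h8 : L4 S ≤ _) (h_mem_L4 S d)))

theorem H2_ne_BB (hF : ∃ c : Fˣ, c ≠ 1) (hR : S.R.p = 2) : H2 S ≠ BB S := by
  intro h
  have h9 : S.XZ 9 ≤ J S.XZ 1 8 := by
    apply X_le_of hF hR
    rw [← h]
    exact (X_le_J (by norm_num) (by norm_num)).trans (norm_R S)
  have h1 : S.XZ 1 ≤ J S.XZ 1 8 := X_le_J (by norm_num) (by norm_num)
  have hn : S.n1 ∈ J S.XZ 1 8 := n1_mem_of S h1 h9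
  obtain ⟨d, hd⟩ := hF
  have hT : S.h d 1 ∈ S.T := S.mem_T.2 ⟨d, 1, rfl⟩
  have h2 := mul_mem (S.T_conj_J hT hn) (inv_mem hn)
  have e1 : S.h d 1 * S.n1 * (S.h d 1)⁻¹ * S.n1⁻¹ = S.h d 1 * (S.n1 * (S.h d 1)⁻¹ * S.n1⁻¹) := by group
  rw [e1, S.h_inv, S.n1_h, S.h_mul] at h2
  simp only [inv_one, mul_one, one_mul, inv_inv] at h2
  exact hd (h_notMem ⟨d, hd⟩ hR h2)

theorem H1_ne_H2 (hF : ∃ c : Fˣ, c ≠ 1) (hR : S.R.p = 2) : H1 S ≠ H2 S := by
  intro h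
  apply H1_ne_BB hF hR
  refine le_antisymm ?_ (BB_le_H1 hF hR)
  have hJ : J S.XZ 1 8 = J S.XZ 1 7 ⊔ J S.XZ 2 8 := by
    refine le_antisymm (J_le fun k h1 h2 => ?_) (sup_le (J_mono le_rfl (by norm_num)) (J_mono (by norm_num) le_rfl))
    by_cases h3 : k ≤ 7
    · exact (X_le_J h1 h3).trans le_sup_left
    · exact (X_le_J (by omega) h2).trans le_sup_right
  have key : ∀ g ∈ H1 S, ∀ x ∈ J S.XZ 1 8, g * x * g⁻¹ ∈ J S.XZ 1 8 := by
    intro g hg x hx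
    have h2 : g ∈ H2 S := h ▸ hg
    have h3 : J S.XZ 1 8 ≤ (J S.XZ 1 8).comap (MulAut.conj g).toMonoidHom := by
      conv_lhs => rw [hJ]
      refine sup_le (fun y hy => ?_) (fun y hy => ?_)
      · exact J_mono le_rfl (by norm_num) ((Subgroup.mem_normalizer_iff.1 hg y).1 hy)
      · exact J_mono (by norm_num) le_rfl ((Subgroup.mem_normalizer_iff.1 h2 y).1 hy)
    exact h3 hx
  intro g hg
  rw [BB, Subgroup.mem_normalizer_iff]
  intro x
  refine ⟨key g hg x, fun hx => ?_⟩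
  have h1 := key g⁻¹ (inv_mem hg) _ hx
  have e : g⁻¹ * (g * x * g⁻¹) * g⁻¹⁻¹ = x := by group
  rwa [e] at h1

theorem J_ne_bot {a b k : ℤ} (h1 : a ≤ k) (h2 : k ≤ b) : J S.XZ a b ≠ ⊥ := fun h =>
  S.zsys8.ne_bot k (eq_bot_iff.2 (h ▸ X_le_J h1 h2))

theorem H1_core (hR : S.R.p = 2) {p : ℕ} [hp : Fact p.Prime] (hp2 : p ≠ 2) : pCore p (H1 S) = ⊥ := by
  have h2 : Fact (Nat.Prime 2) := ⟨Nat.prime_two⟩
  refine pCore_eq_bot_of hp2 (D := J S.XZ 1 7) Subgroup.le_normalizer le_rfl (isP hR le_rfl (by norm_num)) ?_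
  intro x _ hx
  have h1 : x ∈ S.Zc 2 := by
    rw [← S.centralizer_Q]
    exact Subgroup.mem_centralizer_iff.2 hx
  have h3 : x ∈ J S.XZ 1 8 := mem_J (S.Zc_le 2 h1) (by norm_num) (by norm_num)
  obtain ⟨k, hk⟩ := isP hR le_rfl le_rfl ⟨x, h3⟩
  exact ⟨k, congrArg Subtype.val hk⟩

theorem H2_core (hR : S.R.p = 2) {p : ℕ} [hp : Fact p.Prime] (hp2 : p ≠ 2) : pCore p (H2 S) = ⊥ := by
  have h2 : Fact (Nat.Prime 2) := ⟨Nat.prime_two⟩
  refine pCore_eq_bot_of hp2 (D := J S.XZ 2 8) Subgroup.le_normalizer le_rfl (isP hR (by norm_num) le_rfl) ?_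
  intro x _ hx
  have h1 : x ∈ S.W46 := by
    rw [← S.centralizer_J28]
    exact Subgroup.mem_centralizer_iff.2 hx
  have h3 : x ∈ J S.XZ 1 8 := J_mono (by norm_num) (by norm_num) (S.W46_le h1)
  obtain ⟨k, hk⟩ := isP hR le_rfl le_rfl ⟨x, h3⟩
  exact ⟨k, congrArg Subtype.val hk⟩

/-- `H1` normalises `Z_4` -/
theorem H1_Zc {g z : G} (hg : g ∈ H1 S) (hz : z ∈ S.Zc 2) : g⁻¹ * z * g ∈ S.Zc 2 := by
  rw [← S.centralizer_Q] at hz ⊢
  rw [Subgroup.mem_centralizer_iff] at hz ⊢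
  intro x hx
  have h1 : g * x * g⁻¹ ∈ S.Q := (Subgroup.mem_normalizer_iff.1 hg x).1 hx
  have h2 := hz _ h1
  calc x * (g⁻¹ * z * g) = g⁻¹ * ((g * x * g⁻¹) * z) * g := by group
    _ = g⁻¹ * (z * (g * x * g⁻¹)) * g := by rw [h2]
    _ = g⁻¹ * z * g * x := by group

variable {p : ℕ} [hp : Fact p.Prime] {C : Set G}

/-- **The row of `²F₄(q)`, abstractly.** -/
theorem crow_full (hF : ∃ c : Fˣ, c ≠ 1) (hR : S.R.p = 2) (hO2 : pCore 2 G = ⊥) (hOp : pCore p G = ⊥)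
    (P : Cfsg.BNPair G) {U : Subgroup G} {s t : G} (hs : FixBN.Split P 2 U) (hS : P.S = {s, t}) : CRow p G := by
  have h2 : Fact (Nat.Prime 2) := ⟨Nat.prime_two⟩
  obtain ⟨V, hV⟩ := SylU.exists_sylow S hF hR
  obtain ⟨Q, a, b, hQ, hQS⟩ := exists_pair_of P hs hS V
  have hQB : Q.B = BB S := by
    rw [← hQ.normalizer_eq, hV]
    rfl
  have hB1 : Q.B ≤ H1 S := by rw [hQB]; exact BB_le_H1 hF hR
  have hB2 : Q.B ≤ H2 S := by rw [hQB]; exact BB_le_H2 hF hR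
  have ht1 : H1 S ≠ ⊤ := normalizer_ne_top hO2 (isP hR le_rfl (by norm_num)) (J_ne_bot (k := 1) le_rfl (by norm_num))
  have ht2 : H2 S ≠ ⊤ := normalizer_ne_top hO2 (isP hR (by norm_num) le_rfl) (J_ne_bot (k := 2) le_rfl (by norm_num))
  have hn1 : H1 S ≠ Q.B := by rw [hQB]; exact H1_ne_BB hF hR
  have hn2 : H2 S ≠ Q.B := by rw [hQB]; exact H2_ne_BB hF hR
  have hne : H1 S ≠ H2 S := H1_ne_H2 hF hR
  intro C hC
  by_cases hp2 : p = 2
  · subst hp2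
    have hV1 : (V : Subgroup G) ≤ Q.B := hQ.le
    exact hC.eq_one_of_two hO2 V ht1 ht2 (hV1.trans hB1) (hV1.trans hB2)
      (sup_eq_top hQS hB1 hB2 ht1 ht2 hn1 hn2 hne)
  · intro c hc
    by_contra hc1
    have hc1' : ∀ g, g * c * g⁻¹ ≠ 1 := fun g h => hc1 (by simpa using h)
    obtain ⟨g, x, hx, y, hy, e⟩ := exists_mul hQ hQS hB1 hB2 ht1 ht2 hn1 hn2 hne c
      (fun g hg => hc1' g (hC.eq_one_of_mem ht1 (H1_core hR hp2) (hC.conj g c hc) hg))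
      (fun g hg => hc1' g (hC.eq_one_of_mem ht2 (H2_core hR hp2) (hC.conj g c hc) hg))
    obtain ⟨d, hd⟩ : ∃ d, d = g * c * g⁻¹ := ⟨_, rfl⟩
    have hdC : d ∈ C := by rw [hd]; exact hC.conj g c hc
    have hd1 : d ≠ 1 := by rw [hd]; exact hc1' g
    rw [← hd] at e
    have hz : S.e 2 0 1 ∈ S.Zc 2 := S.mem_Zc.2 ⟨1, rfl⟩
    have hz1 : S.e 2 0 1 ≠ 1 := fun h => one_ne_zero (S.e_eq_one h).2
    have hz2 : S.e 2 0 1 * S.e 2 0 1 = 1 := by
      rw [S.e_mul_Zc, S.add_self, S.e_zero]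
    obtain ⟨z, hzz⟩ : ∃ z, z = S.e 2 0 1 := ⟨_, rfl⟩
    rw [← hzz] at hz hz1 hz2
    have hord : orderOf z = 2 := orderOf_eq_prime (by rw [pow_two]; exact hz2) hz1
    refine hC.comm_false hdC hd1 (g := z) ?_ ?_ ?_
    · rw [hord]
      exact (Nat.coprime_primes Nat.prime_two hp.1).2 (Ne.symm hp2)
    · have h3 : d⁻¹ * z * d = y⁻¹ * (x⁻¹ * z * x) * y := by rw [e]; group
      have h4 : x⁻¹ * z * x ∈ J S.XZ 2 8 := mem_J (S.Zc_le 2 (H1_Zc hx hz)) (by norm_num) (by norm_num)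
      have h5 : y⁻¹ * (x⁻¹ * z * x) * y ∈ J S.XZ 2 8 := by
        have h6 := (Subgroup.mem_normalizer_iff.1 (inv_mem hy) _).1 h4
        rwa [inv_inv] at h6
      rw [h3]
      exact (S.comm_PL (J_mono (by norm_num) le_rfl h5) hz).symm
    · intro w hw
      obtain ⟨k, hk⟩ := isConj_iff.1 hw
      refine ⟨(H1 S).map (MulAut.conj k).toMonoidHom, ?_, ?_, ?_⟩
      · intro h
        apply ht1
        rw [eq_top_iff]
        intro v _
        have h3 : k * v * k⁻¹ ∈ (H1 S).map (MulAut.conj k).toMonoidHom := by rw [h]; trivial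
        obtain ⟨v', hv', e'⟩ := h3
        have e'' : k * v' * k⁻¹ = k * v * k⁻¹ := e'
        have h4 : v' = v := by simpa using e''
        rw [← h4]
        exact hv'
      · intro v hv
        have h3 : k⁻¹ * v * k ∈ Subgroup.centralizer {z} := by
          rw [Subgroup.mem_centralizer_singleton_iff] at hv ⊢
          rw [← hk] at hv
          calc k⁻¹ * v * k * z = k⁻¹ * (v * (k * z * k⁻¹)) * k := by group
            _ = k⁻¹ * ((k * z * k⁻¹) * v) * k := by rw [hv]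
            _ = z * (k⁻¹ * v * k) := by group
        rw [S.centralizer_z hz hz1] at h3
        refine ⟨k⁻¹ * v * k, norm_Q S h3, ?_⟩
        show k * (k⁻¹ * v * k) * k⁻¹ = v
        group
      · have e1 : H1 S ≃* (H1 S).map (MulAut.conj k).toMonoidHom :=
          (H1 S).equivMapOfInjective _ (MulAut.conj k).injective
        rw [← map_equiv_pCore e1 p, H1_core hR hp2, Subgroup.map_bot]

end TwF4

universe u

/-- **The rows of `²F₄(q)`.** -/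
theorem crow_2F4 {G : Type u} [Group G] [Finite G] (h : Cfsg.Lie.Iso2F4 G) (p : ℕ) [hp : Fact p.Prime] :
    CRow p G := by
  obtain ⟨K, iK, iK', m, hm, hK, ⟨e⟩⟩ := h
  obtain ⟨φ, hφ⟩ := Cfsg.Agent.ChevalleyStructure.TwF4.TwistedFix.exists_rln hK
  have := Cfsg.Agent.ChevalleyStructure.TwF4.Twisted.charP_two hK
  have hfin : Finite ↥(Cfsg.Lie.twistedF4 K (2 ^ m)) := inferInstance
  have h2 : Fact (Nat.Prime 2) := ⟨Nat.prime_two⟩
  have hF : ∃ c : Kˣ, c ≠ 1 := by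
    have h1 : 1 < Nat.card Kˣ := by
      rw [Nat.card_units, Nat.card_eq_fintype_card, hK]
      have : 2 ^ 3 ≤ 2 ^ (2 * m + 1) := Nat.pow_le_pow_right (by norm_num) (by omega)
      omega
    have h2 : Nontrivial Kˣ := Finite.one_lt_card_iff_nontrivial.1 h1
    exact exists_ne 1
  obtain ⟨Q, UE, s, t, -, -, hs, hS, -⟩ := Cfsg.Agent.H69.OctTwF.exists_pair hm hK
  obtain ⟨hsimp, hna⟩ := Cfsg.Agent.S1072.result hm hK
  refine CRow.of_equiv e ?_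
  exact crow_full (S := Cfsg.Agent.KFacts.TwF4.Inst.full hK hφ) hF rfl (pCore_eq_bot_of_simple hna 2)
    (pCore_eq_bot_of_simple hna p) Q hs hS

end Cfsg.Agent.H829.S3828
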